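import Groth.Agent.L24.DescHom.Mate
import Groth.Agent.L29.LocFree
import Groth.Agent.L18.LefConnected
import Groth.Agent.L21.RR.Twist
import Groth.Prelude.Def_FSch3
import Groth.Prelude.Def_Lef

/-!
A fully faithful completion functor gives bijective maps to formal homomorphisms.
-/

set_option autoImplicit false
set_option linter.style.haveILetI false
set_option backward.isDefEq.respectTransparency false
set_option backward.isDefEq.respectTransparency.types false
universe u

open CategoryTheory CategoryTheory.Limits AlgebraicGeometry Opposite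
open Groth.L24.DescHom (toComp unit_toComp pullComp pullComp_self pullComp_congr unit_map_toComp)

noncomputable section

namespace Groth.L06.FEtLef

local notation "adj" => Scheme.Modules.pullbackPushforwardAdjunction

variable {X : Scheme.{u}} (𝓘 : X.IdealSheafData)

/-- The canonical trivialisation of the pullback of the structure module. -/
abbrev ε {Z : Scheme.{u}} (g : Z ⟶ X) :
    (Scheme.Modules.pullback g).obj (Coh.structureModule X) ≅ Coh.structureModule Z :=
  Groth.L29.LocFree.pullbackUnitIso g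

theorem unit_ε {Z : Scheme.{u}} (g : Z ⟶ X) :
    (adj g).unit.app (Coh.structureModule X) ≫ (Scheme.Modules.pushforward g).map (ε g).hom =
      ClSub.unitToPush g := by
  refine ((adj g).homEquiv_unit _ _ _).symm.trans ?_
  refine (SheafOfModules.pullbackPushforwardAdjunction_homEquiv_pullbackObjUnitToUnit g.toRingCatSheafHom).trans ?_
  ext U : 2
  rfl

theorem toComp_eq_quotMap {I J : X.IdealSheafData} (h : I ≤ J) :
    (Scheme.Modules.pushforward I.subschemeι).map (ε I.subschemeι).inv ≫
      toComp (Scheme.IdealSheafData.inclusion h) I.subschemeι (Scheme.IdealSheafData.inclusion_subschemeι h)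
        (Coh.structureModule X) ≫ (Scheme.Modules.pushforward J.subschemeι).map (ε J.subschemeι).hom =
      Lef.quotMap h := by
  haveI := Groth.L21.RR.epi_toSubscheme I
  rw [← cancel_epi (ClSub.toSubscheme I), Groth.L18.LefConnected.toSubscheme_quotMap h]
  show ClSub.unitToPush I.subschemeι ≫ _ = ClSub.unitToPush J.subschemeι
  rw [← unit_ε I.subschemeι, Category.assoc, ← Functor.map_comp_assoc, Iso.hom_inv_id,
    CategoryTheory.Functor.map_id, Category.id_comp, reassoc_of% (unit_toComp (Scheme.IdealSheafData.inclusion h)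
      I.subschemeι (Scheme.IdealSheafData.inclusion_subschemeι h) (Coh.structureModule X)), unit_ε]

/-- Transition morphisms of the thickenings. -/
abbrev inc (n : ℕ) : (𝓘 ^ (n + 1)).subscheme ⟶ (𝓘 ^ (n + 1 + 1)).subscheme :=
  (FSch.completionAlong X 𝓘).ι n

theorem inc_ι (n : ℕ) : inc 𝓘 n ≫ (𝓘 ^ (n + 1 + 1)).subschemeι = (𝓘 ^ (n + 1)).subschemeι :=
  Scheme.IdealSheafData.inclusion_subschemeι (FSch.pow_succ_le X 𝓘 n)

theorem pullComp_eq (D : X.Modules) (n : ℕ)
    (b : (Scheme.Modules.pullback (𝓘 ^ (n + 1 + 1)).subschemeι).obj D ⟶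
      (Scheme.Modules.pullback (𝓘 ^ (n + 1 + 1)).subschemeι).obj (Coh.structureModule X))
    (c : (Scheme.Modules.pullback (𝓘 ^ (n + 1)).subschemeι).obj D ⟶
      (Scheme.Modules.pullback (𝓘 ^ (n + 1)).subschemeι).obj (Coh.structureModule X))
    (y' : D ⟶ ClSub.quotMod (𝓘 ^ (n + 1 + 1))) (y : D ⟶ ClSub.quotMod (𝓘 ^ (n + 1)))
    (hy : y' ≫ Lef.quotMap (Lef.pow_succ_le 𝓘 n) = y)
    (hb : (adj _).unit.app D ≫ (Scheme.Modules.pushforward _).map b =
      y' ≫ (Scheme.Modules.pushforward _).map (ε (𝓘 ^ (n + 1 + 1)).subschemeι).inv)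
    (hc : (adj _).unit.app D ≫ (Scheme.Modules.pushforward _).map c =
      y ≫ (Scheme.Modules.pushforward _).map (ε (𝓘 ^ (n + 1)).subschemeι).inv) :
    pullComp (inc 𝓘 n) _ (inc_ι 𝓘 n) b = c := by
  rw [← cancel_mono (ε (𝓘 ^ (n + 1)).subschemeι).hom]
  refine ((adj (𝓘 ^ (n + 1)).subschemeι).homEquiv _ _).injective ?_
  rw [Adjunction.homEquiv_unit, Adjunction.homEquiv_unit, Functor.map_comp, Functor.map_comp,
    reassoc_of% hc, ← Category.assoc, ← unit_map_toComp, Category.assoc, Category.assoc, reassoc_of% hb,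
    ← Functor.map_comp, Iso.inv_hom_id, CategoryTheory.Functor.map_id, Category.comp_id]
  refine Eq.trans ?_ hy
  exact congrArg (y' ≫ ·) (toComp_eq_quotMap (Lef.pow_succ_le 𝓘 n))

theorem comm_of_pullComp_eq {A B : Scheme.{u}} (f : A ⟶ B) (g : B ⟶ X) {k : A ⟶ X} (e : f ≫ g = k)
    (D : X.Modules) (b : (Scheme.Modules.pullback g).obj D ⟶ (Scheme.Modules.pullback g).obj (Coh.structureModule X))
    (c : (Scheme.Modules.pullback k).obj D ⟶ (Scheme.Modules.pullback k).obj (Coh.structureModule X))
    (h : pullComp f g e b = c) :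
    (Scheme.Modules.pullback f).map b ≫
        ((Scheme.Modules.pullbackComp f g ≪≫ Scheme.Modules.pullbackCongr e).app _).hom =
      ((Scheme.Modules.pullbackComp f g ≪≫ Scheme.Modules.pullbackCongr e).app D).hom ≫ c := by
  subst e
  rw [pullComp_self] at h
  subst h
  simp [Scheme.Modules.pullbackCongr]

theorem complMod_e_eq (F : X.Modules) (n : ℕ) :
    (FSch.complMod 𝓘 F).e n =
      (Scheme.Modules.pullbackComp ((FSch.completionAlong X 𝓘).ι n) (FSch.completionToX X 𝓘 (n + 1)) ≪≫
        Scheme.Modules.pullbackCongr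
          (Scheme.IdealSheafData.inclusion_subschemeι (FSch.pow_succ_le X 𝓘 n))).app F := by
  rw [FSch.complMod_e, FSch.complTransIso]

theorem exists_of_pullComp (D : X.Modules)
    (h : Function.Surjective (fun φ : D ⟶ Coh.structureModule X => FSch.complModMap 𝓘 φ))
    (a : ∀ n, (Scheme.Modules.pullback (FSch.completionToX X 𝓘 n)).obj D ⟶
      (Scheme.Modules.pullback (FSch.completionToX X 𝓘 n)).obj (Coh.structureModule X))
    (ha : ∀ n, pullComp ((FSch.completionAlong X 𝓘).ι n) (FSch.completionToX X 𝓘 (n + 1))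
      (Scheme.IdealSheafData.inclusion_subschemeι (FSch.pow_succ_le X 𝓘 n)) (a (n + 1)) = a n) :
    ∃ φ : D ⟶ Coh.structureModule X, ∀ n,
      (Scheme.Modules.pullback (FSch.completionToX X 𝓘 n)).map φ = a n := by
  obtain ⟨φ, hφ⟩ := h (⟨a, fun n => by
      rw [complMod_e_eq, complMod_e_eq]
      exact comm_of_pullComp_eq ((FSch.completionAlong X 𝓘).ι n) (FSch.completionToX X 𝓘 (n + 1))
        (Scheme.IdealSheafData.inclusion_subschemeι (FSch.pow_succ_le X 𝓘 n)) D (a (n + 1)) (a n) (ha n)⟩ :
    FSch.ModSys.Hom (FSch.complMod 𝓘 D) (FSch.complMod 𝓘 (Coh.structureModule X)))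
  exact ⟨φ, fun n => congr_fun (congrArg FSch.ModSys.Hom.app hφ) n⟩

theorem homToFormalBijective_of_complModMap (D : X.Modules)
    (h : Function.Bijective (fun φ : D ⟶ Coh.structureModule X => FSch.complModMap 𝓘 φ)) :
    Lef.HomToFormalBijective 𝓘 D := by
  let i : ∀ n, (𝓘 ^ (n + 1)).subscheme ⟶ X := fun n => (𝓘 ^ (n + 1)).subschemeι
  have key : ∀ (n : ℕ) (φ : D ⟶ Coh.structureModule X),
      (adj (i n)).homEquiv _ _ ((Scheme.Modules.pullback (i n)).map φ ≫ (ε (i n)).hom) =
        φ ≫ ClSub.toSubscheme (𝓘 ^ (n + 1)) := fun n φ => by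
    rw [Adjunction.homEquiv_naturality_left, Adjunction.homEquiv_unit, unit_ε]
  refine ⟨fun φ ψ hφψ => h.1 (FSch.ModSys.Hom.ext (funext fun n => ?_)), fun y hy => ?_⟩
  · show (Scheme.Modules.pullback (i n)).map φ = (Scheme.Modules.pullback (i n)).map ψ
    rw [← cancel_mono (ε (i n)).hom]
    refine ((adj (i n)).homEquiv _ _).injective ?_
    rw [key, key, hφψ]
  · let a : ∀ n, (Scheme.Modules.pullback (i n)).obj D ⟶
        (Scheme.Modules.pullback (i n)).obj (Coh.structureModule X) :=
      fun n => ((adj (i n)).homEquiv _ _).symm (y n) ≫ (ε (i n)).inv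
    have ha : ∀ n, (adj (i n)).unit.app D ≫ (Scheme.Modules.pushforward (i n)).map (a n) =
        y n ≫ (Scheme.Modules.pushforward (i n)).map (ε (i n)).inv := fun n => by
      refine ((adj (i n)).homEquiv_unit _ _ (a n)).symm.trans ?_
      refine ((adj (i n)).homEquiv_naturality_right _ _).trans ?_
      exact congrArg (· ≫ _) (Equiv.apply_symm_apply _ _)
    obtain ⟨φ, hφ⟩ := exists_of_pullComp 𝓘 D h.2 a fun n =>
      pullComp_eq 𝓘 D n _ _ (y (n + 1)) (y n) (hy n) (ha (n + 1)) (ha n)
    refine ⟨φ, fun n => ?_⟩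
    have hn : (Scheme.Modules.pullback (i n)).map φ = a n := hφ n
    rw [← key n φ, hn, Adjunction.homEquiv_unit, Functor.map_comp, reassoc_of% (ha n), ← Functor.map_comp,
      Iso.inv_hom_id, CategoryTheory.Functor.map_id, Category.comp_id]

end Groth.L06.FEtLef
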