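import Groth.Agent.L06.FEtLef.Idem
import Groth.Agent.L27.SGA1.FEtFaithful
import Groth.Prelude.Def_FEt
import Mathlib.AlgebraicGeometry.Morphisms.FlatMono

/-!
Restriction of finite étale covers to a closed subscheme satisfying the Lefschetz condition.
-/

set_option autoImplicit false
set_option linter.style.haveILetI false
set_option backward.isDefEq.respectTransparency false
universe u

open CategoryTheory CategoryTheory.Limits AlgebraicGeometry TopologicalSpace Opposite

noncomputable section

namespace Groth.L06.FEtLef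

/-- A point of a closed subscheme with values in a field lifts. -/
theorem field_lift {A B : Scheme.{u}} (γ : A ⟶ B) [IsClosedImmersion γ] {K : Type u} [Field K]
    (x : Spec (CommRingCat.of K) ⟶ B) (pt : Spec (CommRingCat.of K)) (h : x pt ∈ Set.range γ) :
    ∃ t : Spec (CommRingCat.of K) ⟶ A, t ≫ γ = x := by
  obtain ⟨a, ha⟩ := h
  haveI : Subsingleton ↥(Spec (CommRingCat.of K)) := inferInstanceAs (Subsingleton (PrimeSpectrum K))
  obtain ⟨q, -, -⟩ := Scheme.Pullback.exists_preimage_pullback (f := γ) (g := x) a pt ha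
  haveI : Surjective (pullback.snd γ x) := ⟨fun z => ⟨q, Subsingleton.elim _ _⟩⟩
  haveI : IsReduced (Spec (CommRingCat.of K)) := inferInstance
  haveI := isIso_of_isClosedImmersion_of_surjective (pullback.snd γ x)
  exact ⟨inv (pullback.snd γ x) ≫ pullback.fst γ x, by rw [Category.assoc, pullback.condition, IsIso.inv_hom_id_assoc]⟩

variable {U : Scheme.{u}} (𝓙 : U.IdealSheafData)
  (hD : ∀ D : U.Modules, FlatMod.IsFinLocFree D → Lef.HomToFormalBijective 𝓙 D)

include hD in
theorem clopen_empty {E : Scheme.{u}} (g : E ⟶ U) [IsFinite g] [AlgebraicGeometry.Etale g] (C : Set E)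
    (hC : IsClopen C) (hd : ∀ z ∈ C, g z ∉ 𝓙.support) : C = ∅ := by
  obtain ⟨h1, ⟨P⟩⟩ := nonempty_perfectTrace (π := g)
  exact clopen_eq_empty P 𝓙 (hD _ h1) C hC hd

include hD in
theorem clopen_extend {E : Scheme.{u}} (g : E ⟶ U) [IsFinite g] [AlgebraicGeometry.Etale g] (C₀ : Set E)
    (hC : IsClopen ((Subtype.val : (g ⁻¹' (𝓙.support : Set U)) → E) ⁻¹' C₀)) :
    ∃ C : Set E, IsClopen C ∧ ∀ z, g z ∈ 𝓙.support → (z ∈ C ↔ z ∈ C₀) := by
  obtain ⟨h1, ⟨P⟩⟩ := nonempty_perfectTrace (π := g)
  exact exists_clopen_extend P 𝓙 (hD _ h1) C₀ hC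

include hD in
theorem full_faithful_restrict :
    (FEt.restrict 𝓙.subschemeι).Full ∧ (FEt.restrict 𝓙.subschemeι).Faithful := by
  let i := 𝓙.subschemeι
  have hri : Set.range i = (𝓙.support : Set U) := Scheme.IdealSheafData.range_subschemeι _
  refine ⟨⟨fun {V W} χ => ?_⟩, ⟨fun {V W} a b h => ?_⟩⟩
  · haveI : IsFinite V.hom := V.prop.1
    haveI : AlgebraicGeometry.Etale V.hom := V.prop.2
    haveI : IsFinite W.hom := W.prop.1
    haveI : AlgebraicGeometry.Etale W.hom := W.prop.2
    let c : pullback V.hom i ⟶ pullback W.hom i := χ.left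
    have hc : c ≫ pullback.snd W.hom i = pullback.snd V.hom i := MorphismProperty.Over.w χ
    let fV : pullback V.hom i ⟶ V.left := pullback.fst V.hom i
    let γ : pullback V.hom i ⟶ pullback V.hom W.hom := pullback.lift fV (c ≫ pullback.fst W.hom i) (by
      rw [Category.assoc, pullback.condition, pullback.condition, reassoc_of% hc])
    have hγ1 : γ ≫ pullback.fst V.hom W.hom = fV := pullback.lift_fst _ _ _
    have hγ2 : γ ≫ pullback.snd V.hom W.hom = c ≫ pullback.fst W.hom i := pullback.lift_snd _ _ _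
    haveI : IsClosedImmersion fV := MorphismProperty.pullback_fst _ _ inferInstance
    haveI : IsClosedImmersion (γ ≫ pullback.fst V.hom W.hom) := hγ1.symm ▸ inferInstance
    haveI : IsClosedImmersion γ := IsClosedImmersion.of_comp γ (pullback.fst V.hom W.hom)
    let g : pullback V.hom W.hom ⟶ U := pullback.fst V.hom W.hom ≫ V.hom
    haveI : IsFinite g := inferInstance
    haveI : AlgebraicGeometry.Etale g := inferInstance
    let k : pullback g i ⟶ pullback V.hom W.hom := pullback.fst g i
    let σ : pullback V.hom i ⟶ pullback g i := pullback.lift γ (pullback.snd V.hom i) (by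
      show γ ≫ pullback.fst V.hom W.hom ≫ V.hom = _
      rw [reassoc_of% hγ1]
      exact pullback.condition)
    have hσk : σ ≫ k = γ := pullback.lift_fst _ _ _
    haveI : IsClosedImmersion k := MorphismProperty.pullback_fst _ _ inferInstance
    haveI : Mono σ := by
      haveI : Mono (σ ≫ k) := hσk.symm ▸ inferInstance
      exact mono_of_mono σ k
    haveI : AlgebraicGeometry.Etale (σ ≫ pullback.snd g i) := by
      rw [show σ ≫ pullback.snd g i = pullback.snd V.hom i from pullback.lift_snd _ _ _]
      infer_instance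
    haveI : AlgebraicGeometry.Etale σ := Etale.of_comp σ (pullback.snd g i)
    haveI : IsOpenImmersion σ := IsOpenImmersion.of_flat_of_mono σ
    have hrk : Set.range k = g ⁻¹' (𝓙.support : Set U) := by
      rw [← hri]; exact Scheme.Pullback.range_fst g i
    have hclop : IsClopen ((Subtype.val : (g ⁻¹' (𝓙.support : Set U)) → ↥(pullback V.hom W.hom)) ⁻¹' Set.range γ) := by
      refine ⟨γ.isClosedEmbedding.isClosed_range.preimage continuous_subtype_val, ?_⟩
      obtain ⟨O, hO, hOσ⟩ := k.isEmbedding.isInducing.isOpen_iff.1 σ.isOpenEmbedding.isOpen_range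
      convert hO.preimage (continuous_subtype_val : Continuous (Subtype.val : (g ⁻¹' (𝓙.support : Set U)) → _)) using 1
      ext ⟨z, hz⟩
      obtain ⟨w, rfl⟩ : z ∈ Set.range k := by rw [hrk]; exact hz
      show k w ∈ Set.range γ ↔ k w ∈ O
      constructor
      · rintro ⟨y, hy⟩
        have : σ y = w := k.isEmbedding.injective (by rw [← Scheme.Hom.comp_apply, hσk, hy])
        exact (Set.ext_iff.1 hOσ w).2 ⟨y, this⟩
      · intro hw
        obtain ⟨y, hy⟩ := (Set.ext_iff.1 hOσ w).1 hw
        exact ⟨y, by rw [← hy, ← Scheme.Hom.comp_apply, hσk]⟩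
    obtain ⟨C, hC, hCγ⟩ := clopen_extend 𝓙 hD g _ hclop
    have hγg : γ ≫ g = pullback.snd V.hom i ≫ i := by
      show γ ≫ pullback.fst V.hom W.hom ≫ V.hom = _
      rw [reassoc_of% hγ1]
      exact pullback.condition
    have hγS : ∀ y, g (γ y) ∈ 𝓙.support := fun y => by
      have : g (γ y) ∈ Set.range i := ⟨pullback.snd V.hom i y, by
        rw [← Scheme.Hom.comp_apply, ← hγg, Scheme.Hom.comp_apply]⟩
      rwa [hri] at this
    let Cs : (pullback V.hom W.hom).Opens := ⟨C, hC.2⟩
    haveI : IsClosedImmersion Cs.ι :=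
      IsClosedImmersion.of_isPreimmersion Cs.ι (by rw [Scheme.Opens.range_ι]; exact hC.1)
    let p : Cs.toScheme ⟶ V.left := Cs.ι ≫ pullback.fst V.hom W.hom
    haveI : IsFinite p := inferInstance
    haveI : AlgebraicGeometry.Etale p := inferInstance
    have hrange : Set.range γ ⊆ Set.range Cs.ι := by
      rw [Scheme.Opens.range_ι]
      rintro _ ⟨y, rfl⟩
      exact (hCγ _ (hγS y)).2 ⟨y, rfl⟩
    let γ' := IsOpenImmersion.lift Cs.ι γ hrange
    have hγ' : γ' ≫ Cs.ι = γ := IsOpenImmersion.lift_fac _ _ _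
    have hγ'p : γ' ≫ p = fV := by rw [← Category.assoc, hγ', hγ1]
    have hkey : ∀ {K : Type u} [Field K] (pt : Spec (CommRingCat.of K)) (x : Spec (CommRingCat.of K) ⟶ Cs.toScheme),
        g (Cs.ι (x pt)) ∈ 𝓙.support → ∃ t, t ≫ γ' = x := by
      intro K _ pt x hx
      obtain ⟨t, ht⟩ := field_lift γ (x ≫ Cs.ι) pt (by
        rw [Scheme.Hom.comp_apply]
        exact (hCγ _ hx).1 (x pt).2)
      exact ⟨t, by rw [← cancel_mono Cs.ι, Category.assoc, hγ', ht]⟩
    haveI : IsClosedImmersion (pullback.diagonal p) := IsSeparated.isClosedImmersion_diagonal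
    haveI : IsOpenImmersion (pullback.diagonal p) := inferInstance
    have hdiag : (Set.range (pullback.diagonal p))ᶜ = ∅ := by
      let g₂ : pullback p p ⟶ U := pullback.fst p p ≫ p ≫ V.hom
      haveI : IsFinite g₂ := inferInstance
      haveI : AlgebraicGeometry.Etale g₂ := inferInstance
      refine clopen_empty 𝓙 hD g₂ _ (IsClopen.compl ⟨(pullback.diagonal p).isClosedEmbedding.isClosed_range,
        (pullback.diagonal p).isOpenEmbedding.isOpen_range⟩) fun z hz hzS => hz ?_
      let e := (pullback p p).fromSpecResidueField z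
      let pt : Spec ((pullback p p).residueField z) := IsLocalRing.closedPoint _
      have he : e pt = z := Scheme.fromSpecResidueField_apply _ _
      have hg : ∀ x : Spec ((pullback p p).residueField z) ⟶ Cs.toScheme, x ≫ p = e ≫ pullback.fst p p ≫ p →
          g (Cs.ι (x pt)) ∈ 𝓙.support := fun x hx => by
        have h1 : g (Cs.ι (x pt)) = V.hom ((x ≫ p) pt) := by
          simp only [g, p, Scheme.Hom.comp_apply]
          rfl
        rw [h1, hx]
        have h2 : V.hom ((e ≫ pullback.fst p p ≫ p) pt) = g₂ z := by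
          simp only [g₂, Scheme.Hom.comp_apply, he]
          rfl
        rw [h2]; exact hzS
      obtain ⟨t₁, ht₁⟩ := hkey pt (e ≫ pullback.fst p p) (hg _ (by simp only [p, Category.assoc]))
      obtain ⟨t₂, ht₂⟩ := hkey pt (e ≫ pullback.snd p p)
        (hg _ (by simp only [p, Category.assoc, ← pullback.condition]))
      have ht : t₁ = t₂ := by
        rw [← cancel_mono fV, ← hγ'p, reassoc_of% ht₁, reassoc_of% ht₂, pullback.condition]
      have hx : e = (e ≫ pullback.fst p p) ≫ pullback.diagonal p := by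
        apply pullback.hom_ext
        · rw [Category.assoc, pullback.diagonal_fst, Category.comp_id]
        · rw [Category.assoc, pullback.diagonal_snd, Category.comp_id, ← ht₁, ht, ht₂]
      exact ⟨(e ≫ pullback.fst p p) pt, by rw [← Scheme.Hom.comp_apply, ← hx, he]⟩
    haveI : Surjective (pullback.diagonal p) := ⟨Set.range_eq_univ.1 (Set.compl_empty_iff.1 hdiag)⟩
    haveI : IsIso (pullback.diagonal p) := Flat.isIso_of_surjective_of_mono _
    haveI : Mono p := (pullback.isIso_diagonal_iff p).1 inferInstance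
    have hsurj : (Set.range p)ᶜ = ∅ := by
      refine clopen_empty 𝓙 hD V.hom _
        (IsClopen.compl ⟨p.isClosedMap.isClosed_range, p.isOpenMap.isOpen_range⟩) fun v hv hvS => hv ?_
      have hvr : v ∈ Set.range fV := by
        have h1 : Set.range fV = V.hom ⁻¹' Set.range i := Scheme.Pullback.range_fst V.hom i
        rw [h1, hri]
        exact hvS
      obtain ⟨y, rfl⟩ := hvr
      exact ⟨γ' y, by rw [← Scheme.Hom.comp_apply, hγ'p]⟩
    haveI : Surjective p := ⟨Set.range_eq_univ.1 (Set.compl_empty_iff.1 hsurj)⟩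
    haveI : IsIso p := Flat.isIso_of_surjective_of_mono p
    let a : V.left ⟶ W.left := inv p ≫ Cs.ι ≫ pullback.snd V.hom W.hom
    have ha : a ≫ W.hom = V.hom := by
      simp only [a, Category.assoc, ← pullback.condition]
      rw [IsIso.inv_comp_eq]
      simp only [p, Category.assoc]
    refine ⟨MorphismProperty.Over.homMk a ha, MorphismProperty.Over.Hom.ext (pullback.hom_ext ?_ ?_)⟩
    · refine (pullback.lift_fst _ _ _).trans ?_
      show fV ≫ a = c ≫ pullback.fst W.hom i
      rw [← hγ2, ← hγ'p, ← hγ']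
      simp only [a, Category.assoc, IsIso.hom_inv_id_assoc]
    · exact (pullback.lift_snd _ _ _).trans hc.symm
  · obtain ⟨C, hC, hu, hr⟩ := Groth.L27.SGA1Conn.exists_clopen a b
    haveI : IsFinite V.hom := V.prop.1
    haveI : AlgebraicGeometry.Etale V.hom := V.prop.2
    have hsub := hr _ _ (Groth.L27.SGA1Conn.range_subset_of_map_eq i h)
    rw [Scheme.Pullback.range_fst] at hsub
    refine hu (Set.compl_empty_iff.1 (clopen_empty 𝓙 hD V.hom _ hC.compl fun v hv hvS => hv (hsub (show V.hom v ∈ Set.range i by rw [hri]; exact hvS))))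

end Groth.L06.FEtLef
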