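import Groth.Agent.L12.FinCov.Trace
import Groth.Agent.L19.FinLocPush
import Groth.Agent.L29.Trace
import Groth.Agent.L22.Ideal
import Groth.Agent.L18.LefConnected
import Groth.Prelude.Def_Lef
import Mathlib.AlgebraicGeometry.Morphisms.Etale

/-!
Clopen subsets of a finite étale cover and the Lefschetz condition.
-/

set_option autoImplicit false
set_option linter.style.haveILetI false
set_option backward.isDefEq.respectTransparency false
set_option backward.isDefEq.respectTransparency.types false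
universe u

open CategoryTheory CategoryTheory.Limits AlgebraicGeometry TopologicalSpace Opposite
open Groth.L12.FinCov (rM rO mkHom app_rM fn_ext rM_rM)

noncomputable section

namespace Groth.L06.FEtLef

section Basics

/-- An idempotent with empty locus is zero. -/
theorem eq_zero_of_idem {Z : Scheme.{u}} {O : Z.Opens} {e : Γ(Z, O)} (he : IsIdempotentElem e)
    (h : ∀ z : Z, z ∉ Z.basicOpen e) : e = 0 := by
  refine TopCat.Presheaf.section_ext Z.sheaf O _ _ fun x hx => ?_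
  show (Z.presheaf.germ O x hx).hom e = (Z.presheaf.germ O x hx).hom 0
  rw [map_zero]
  have hnu : ¬ IsUnit (Z.presheaf.germ O x hx e) := fun hu => h x ((Z.mem_basicOpen _ x hx).2 hu)
  have h1 : IsUnit (1 - Z.presheaf.germ O x hx e) := (IsLocalRing.isUnit_or_isUnit_one_sub_self _).resolve_left hnu
  exact h1.mul_left_eq_zero.1 (by rw [mul_sub, mul_one, ← map_mul, he.eq, sub_self])

/-- Idempotents with the same locus are equal. -/
theorem eq_of_idem {Z : Scheme.{u}} {O : Z.Opens} {a b : Γ(Z, O)} (ha : IsIdempotentElem a)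
    (hb : IsIdempotentElem b) (h : ∀ z : Z, z ∈ Z.basicOpen a ↔ z ∈ Z.basicOpen b) : a = b := by
  have key : ∀ c d : Γ(Z, O), IsIdempotentElem c → IsIdempotentElem d →
      (∀ z : Z, z ∈ Z.basicOpen c → z ∈ Z.basicOpen d) → c = c * d := fun c d hc hd hcd => by
    have h0 : c * (1 - d) = 0 := eq_zero_of_idem (hc.mul hd.one_sub) fun z hz => by
      rw [Z.basicOpen_mul] at hz
      have h2 : z ∈ Z.basicOpen (d * (1 - d)) := by
        rw [Z.basicOpen_mul]; exact ⟨hcd z hz.1, hz.2⟩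
      rw [hd.mul_one_sub_self, Z.basicOpen_zero] at h2
      exact h2
    rwa [mul_sub, mul_one, sub_eq_zero] at h0
  rw [key a b ha hb fun z => (h z).1, mul_comm, ← key b a hb ha fun z => (h z).2]

/-- A clopen part of an open is the locus of an idempotent. -/
theorem exists_idem {Z : Scheme.{u}} (O : Z.Opens) (C : Set Z) (hC : IsClopen C) :
    ∃ e : Γ(Z, O), IsIdempotentElem e ∧ ∀ z ∈ O, (z ∈ Z.basicOpen e ↔ z ∈ C) := by
  classical
  let A : Z.Opens := O ⊓ ⟨C, hC.2⟩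
  let B : Z.Opens := O ⊓ ⟨Cᶜ, hC.1.isOpen_compl⟩
  have hAB : A ⊓ B = ⊥ := by
    rw [eq_bot_iff]
    rintro z ⟨hA, hB⟩
    exact hB.2 hA.2
  let W : Bool → Z.Opens := fun b => if b then A else B
  let s : ∀ b, Γ(Z, W b) := fun b => if b then 1 else 0
  have hW : ∀ b, W b ≤ O := fun b => by cases b <;> exact inf_le_left
  have hcov : O ≤ iSup W := fun z hz => by
    by_cases h : z ∈ C
    · exact Opens.mem_iSup.2 ⟨true, hz, h⟩
    · exact Opens.mem_iSup.2 ⟨false, hz, h⟩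
  obtain ⟨e, he, -⟩ := Z.sheaf.existsUnique_gluing' W O (fun b => homOfLE (hW b)) hcov s (fun b b' => by
    cases b <;> cases b'
    · rfl
    · have h' : Subsingleton Γ(Z, W false ⊓ W true) := by
        rw [show W false ⊓ W true = ⊥ from (inf_comm _ _).trans hAB]
        exact CommRingCat.subsingleton_of_isTerminal Z.sheaf.isTerminalOfEmpty
      exact @Subsingleton.elim _ h' _ _
    · have h' : Subsingleton Γ(Z, W true ⊓ W false) := by
        rw [show W true ⊓ W false = ⊥ from hAB]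
        exact CommRingCat.subsingleton_of_isTerminal Z.sheaf.isTerminalOfEmpty
      exact @Subsingleton.elim _ h' _ _
    · rfl)
  have he' : ∀ b, Z.presheaf.map (homOfLE (hW b)).op e = s b := he
  refine ⟨e, ?_, fun z hz => ?_⟩
  · refine Z.sheaf.eq_of_locally_eq' W O (fun b => homOfLE (hW b)) hcov _ _ fun b => ?_
    show Z.presheaf.map (homOfLE (hW b)).op (e * e) = Z.presheaf.map (homOfLE (hW b)).op e
    rw [map_mul, he']
    cases b <;> simp [s]
  · rw [Z.mem_basicOpen _ z hz]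
    by_cases h : z ∈ C
    · rw [← Z.presheaf.germ_res_apply (homOfLE (hW true)) z (⟨hz, h⟩ : z ∈ A) e, he' true]
      simp [s, h]
    · rw [← Z.presheaf.germ_res_apply (homOfLE (hW false)) z (⟨hz, h⟩ : z ∈ B) e, he' false]
      simp [s, h]

end Basics

variable {U E : Scheme.{u}} (π : E ⟶ U)

/-- The direct image of the structure module. -/
abbrev pO : U.Modules := (Scheme.Modules.pushforward π).obj (Coh.structureModule E)

/-- Restriction of functions on the cover. -/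
abbrev rE {W W' : U.Opens} (h : W' ≤ W) (x : Γ(E, π ⁻¹ᵁ W)) : Γ(E, π ⁻¹ᵁ W') :=
  E.presheaf.map (homOfLE (π.preimage_mono h)).op x

theorem rE_rE {W W' W'' : U.Opens} (h : W' ≤ W) (h' : W'' ≤ W') (x : Γ(E, π ⁻¹ᵁ W)) :
    rE π h' (rE π h x) = rE π (h'.trans h) x := by
  show (E.presheaf.map _ ≫ E.presheaf.map _) x = _
  rw [← Functor.map_comp]; rfl

theorem rE_mul {W W' : U.Opens} (h : W' ≤ W) (x y : Γ(E, π ⁻¹ᵁ W)) : rE π h (x * y) = rE π h x * rE π h y :=
  map_mul _ _ _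

/-- A trace with perfect pairing on small affine opens. -/
structure PerfectTrace where
  τ : pO π ⟶ Coh.structureModule U
  cover : ∀ (x : U) (O : U.Opens), x ∈ O → ∃ W : U.Opens, IsAffineOpen W ∧ x ∈ W ∧ W ≤ O ∧
    ∃ (n : ℕ) (b b' : Fin n → Γ(E, π ⁻¹ᵁ W)), ∀ (W' : U.Opens) (h : W' ≤ W), IsAffineOpen W' →
      ∀ y : Γ(E, π ⁻¹ᵁ W'),
        y = ∑ i, π.app W' (show Γ(U, W') from τ.app W' (y * rE π h (b i))) * rE π h (b' i)

variable {π}

/-- The trace of a section, as a function. -/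
def PerfectTrace.tr (P : PerfectTrace π) (W : U.Opens) (y : Γ(E, π ⁻¹ᵁ W)) : Γ(U, W) := P.τ.app W y

theorem PerfectTrace.tr_add (P : PerfectTrace π) (W : U.Opens) (y y' : Γ(E, π ⁻¹ᵁ W)) :
    P.tr W (y + y') = P.tr W y + P.tr W y' := map_add (P.τ.app W).hom _ _

theorem PerfectTrace.tr_zero (P : PerfectTrace π) (W : U.Opens) : P.tr W 0 = 0 := map_zero (P.τ.app W).hom

theorem PerfectTrace.tr_sub (P : PerfectTrace π) (W : U.Opens) (y y' : Γ(E, π ⁻¹ᵁ W)) :
    P.tr W (y - y') = P.tr W y - P.tr W y' := map_sub (P.τ.app W).hom _ _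

theorem PerfectTrace.tr_smul (P : PerfectTrace π) (W : U.Opens) (a : Γ(U, W)) (y : Γ(E, π ⁻¹ᵁ W)) :
    P.tr W (π.app W a * y) = a * P.tr W y := P.τ.app_smul a y

theorem PerfectTrace.tr_res (P : PerfectTrace π) {W W' : U.Opens} (h : W' ≤ W) (y : Γ(E, π ⁻¹ᵁ W)) :
    P.tr W' (rE π h y) = rO h (P.tr W y) := app_rM P.τ h y

/-- The ideal of a level in the sections of the cover. -/
def lev (J : U.IdealSheafData) {W : U.Opens} (hW : IsAffineOpen W) : Ideal Γ(E, π ⁻¹ᵁ W) :=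
  (J.ideal ⟨W, hW⟩).map (π.app W).hom

theorem PerfectTrace.tr_sum (P : PerfectTrace π) (W : U.Opens) {ι : Type*} (t : Finset ι)
    (f : ι → Γ(E, π ⁻¹ᵁ W)) : P.tr W (∑ i ∈ t, f i) = ∑ i ∈ t, P.tr W (f i) := map_sum (P.τ.app W).hom _ _

theorem PerfectTrace.cover' (P : PerfectTrace π) (x : U) (O : U.Opens) (hx : x ∈ O) :
    ∃ W : U.Opens, IsAffineOpen W ∧ x ∈ W ∧ W ≤ O ∧
      ∃ (n : ℕ) (b b' : Fin n → Γ(E, π ⁻¹ᵁ W)), ∀ (W' : U.Opens) (h : W' ≤ W), IsAffineOpen W' →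
        ∀ y : Γ(E, π ⁻¹ᵁ W'), y = ∑ i, π.app W' (P.tr W' (y * rE π h (b i))) * rE π h (b' i) :=
  P.cover x O hx

variable (J : U.IdealSheafData)

theorem app_eq_zero_iff [IsAffineHom π] {W : U.Opens} (hW : IsAffineOpen W) (x : Γ(E, π ⁻¹ᵁ W)) :
    (J.comap π).subschemeι.app (π ⁻¹ᵁ W) x = 0 ↔ x ∈ lev J hW := by
  have h1 := (J.comap π).ker_subschemeι_app ⟨π ⁻¹ᵁ W, hW.preimage π⟩
  rw [Groth.L22.Ideals.comap_ideal π J ⟨W, hW⟩ ⟨π ⁻¹ᵁ W, hW.preimage π⟩ le_rfl,
    ← Scheme.Hom.app_eq_appLE] at h1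
  exact Iff.of_eq (congrArg (x ∈ ·) h1)

theorem quot_eq_iff {W : U.Opens} (hW : IsAffineOpen W) (a b : Γ(U, W)) :
    J.subschemeι.app W a = J.subschemeι.app W b ↔ a - b ∈ J.ideal ⟨W, hW⟩ := by
  rw [← J.ker_subschemeι_app ⟨W, hW⟩, RingHom.mem_ker, map_sub, sub_eq_zero]

/-- The trace maps the ideal of a level into the ideal. -/
theorem PerfectTrace.tr_mem (P : PerfectTrace π) {W : U.Opens} (hW : IsAffineOpen W) {x : Γ(E, π ⁻¹ᵁ W)}
    (hx : x ∈ lev J hW) (y : Γ(E, π ⁻¹ᵁ W)) : P.tr W (x * y) ∈ J.ideal ⟨W, hW⟩ := by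
  revert y
  refine Submodule.span_induction (p := fun z _ => ∀ y, P.tr W (z * y) ∈ J.ideal ⟨W, hW⟩) ?_ ?_ ?_ ?_ hx
  · rintro _ ⟨a, ha, rfl⟩ y
    rw [P.tr_smul]
    exact Ideal.mul_mem_right _ _ ha
  · intro y
    rw [zero_mul, P.tr_zero]
    exact zero_mem _
  · intro z z' _ _ h h' y
    rw [add_mul, P.tr_add]
    exact add_mem (h y) (h' y)
  · intro c z _ h y
    rw [smul_eq_mul, mul_comm c z, mul_assoc]
    exact h _

/-- A lift, on an affine open, of the idempotent of level `J` cutting out `C₀`. -/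
def IsLift (C₀ : Set E) {W : U.Opens} (hW : IsAffineOpen W) (x : Γ(E, π ⁻¹ᵁ W)) : Prop :=
  x * x - x ∈ lev J hW ∧ ∀ z : E, π z ∈ W → π z ∈ J.support → (z ∈ E.basicOpen x ↔ z ∈ C₀)

theorem range_level : Set.range (J.comap π).subschemeι = π ⁻¹' (J.support : Set U) := by
  rw [Scheme.IdealSheafData.range_subschemeι, Scheme.IdealSheafData.support_comap]
  rfl

theorem IsLift.res [IsAffineHom π] {C₀ : Set E} {W W' : U.Opens} {hW : IsAffineOpen W} (hW' : IsAffineOpen W') (h : W' ≤ W)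
    {x : Γ(E, π ⁻¹ᵁ W)} (hx : IsLift J C₀ hW x) : IsLift J C₀ hW' (rE π h x) := by
  refine ⟨?_, fun z hz hzJ => ?_⟩
  · rw [← app_eq_zero_iff, ← rE_mul, ← map_sub (E.presheaf.map (homOfLE (π.preimage_mono h)).op).hom]
    have h0 := (app_eq_zero_iff J hW _).2 hx.1
    have := congr($((J.comap π).subschemeι.naturality (homOfLE (π.preimage_mono h)).op) (x * x - x))
    exact this.trans ((congrArg _ h0).trans (map_zero ((J.comap π).subscheme.presheaf.map _).hom))
  · rw [rE, E.basicOpen_res, ← hx.2 z (h hz) hzJ]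
    exact ⟨fun h' => h'.2, fun h' => ⟨hz, h'⟩⟩

theorem IsLift.sub_mem [IsAffineHom π] {C₀ : Set E} {W : U.Opens} {hW : IsAffineOpen W} {x x' : Γ(E, π ⁻¹ᵁ W)}
    (hx : IsLift J C₀ hW x) (hx' : IsLift J C₀ hW x') : x - x' ∈ lev J hW := by
  rw [← app_eq_zero_iff, map_sub, sub_eq_zero]
  have key : ∀ y : Γ(E, π ⁻¹ᵁ W), y * y - y ∈ lev J hW →
      IsIdempotentElem ((J.comap π).subschemeι.app (π ⁻¹ᵁ W) y) := fun y hy => by
    have := (app_eq_zero_iff J hW _).2 hy
    rwa [map_sub, map_mul, sub_eq_zero] at this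
  refine eq_of_idem (key x hx.1) (key x' hx'.1) fun t => ?_
  rw [← Scheme.preimage_basicOpen, ← Scheme.preimage_basicOpen]
  show (J.comap π).subschemeι t ∈ E.basicOpen x ↔ (J.comap π).subschemeι t ∈ E.basicOpen x'
  by_cases htW : π ((J.comap π).subschemeι t) ∈ W
  · have htJ : π ((J.comap π).subschemeι t) ∈ J.support := by
      have : (J.comap π).subschemeι t ∈ π ⁻¹' (J.support : Set U) := by
        rw [← range_level]; exact ⟨t, rfl⟩
      exact this
    rw [hx.2 _ htW htJ, hx'.2 _ htW htJ]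
  · exact ⟨fun h => absurd (E.basicOpen_le x h) htW, fun h => absurd (E.basicOpen_le x' h) htW⟩

theorem exists_isLift [IsAffineHom π] (C₀ : Set E)
    (hC : IsClopen ((Subtype.val : (π ⁻¹' (J.support : Set U)) → E) ⁻¹' C₀)) {W : U.Opens} (hW : IsAffineOpen W) :
    ∃ x : Γ(E, π ⁻¹ᵁ W), IsLift J C₀ hW x := by
  let k := (J.comap π).subschemeι
  have hk : ∀ t, k t ∈ π ⁻¹' (J.support : Set U) := fun t => by rw [← range_level]; exact ⟨t, rfl⟩
  have hcl : IsClopen (k ⁻¹' C₀) :=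
    hC.preimage (f := fun t => (⟨k t, hk t⟩ : π ⁻¹' (J.support : Set U))) (k.continuous.subtype_mk hk)
  obtain ⟨e, he, hloc⟩ := exists_idem (k ⁻¹ᵁ π ⁻¹ᵁ W) _ hcl
  obtain ⟨x, rfl⟩ := (J.comap π).subschemeι_app_surjective ⟨π ⁻¹ᵁ W, hW.preimage π⟩ e
  refine ⟨x, ?_, fun z hz hzJ => ?_⟩
  · rw [← app_eq_zero_iff, map_sub, map_mul, sub_eq_zero]
    exact he
  · obtain ⟨t, rfl⟩ : z ∈ Set.range k := by rw [range_level]; exact hzJ
    have h1 : t ∈ k ⁻¹ᵁ E.basicOpen x ↔ k t ∈ C₀ := by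
      rw [Scheme.preimage_basicOpen]
      exact hloc t hz
    exact h1

/-- The morphism to the level attached to a relatively clopen subset. -/
theorem exists_levelHom [IsAffineHom π] (P : PerfectTrace π) (C₀ : Set E)
    (hC : IsClopen ((Subtype.val : (π ⁻¹' (J.support : Set U)) → E) ⁻¹' C₀)) :
    ∃ y : pO π ⟶ ClSub.quotMod J, ∀ (W : U.Opens) (hW : IsAffineOpen W) (x : Γ(E, π ⁻¹ᵁ W)),
      IsLift J C₀ hW x → ∀ b : Γ(E, π ⁻¹ᵁ W), y.app W b = J.subschemeι.app W (P.tr W (x * b)) := by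
  classical
  let i := J.subschemeι
  let Q : U.Modules := ClSub.quotMod J
  have hloc : ∀ (V : U.Opens) (s t : Γ(Q, V)),
      (∀ x ∈ V, ∃ (W : U.Opens) (hWV : W ≤ V), x ∈ W ∧ rM Q hWV s = rM Q hWV t) → s = t := fun V s t h => by
    choose W hWV hxW heq using h
    exact TopCat.Sheaf.eq_of_locally_eq' (⟨Q.presheaf, Q.isSheaf⟩ : TopCat.Sheaf Ab U.toTopCat)
      (fun x : V => W x.1 x.2) V (fun x => homOfLE (hWV x.1 x.2))
      (fun x hx => Opens.mem_iSup.2 ⟨⟨x, hx⟩, hxW x hx⟩) s t fun x => heq x.1 x.2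
  have hnat : ∀ {W W' : U.Opens} (h : W' ≤ W) (a : Γ(U, W)),
      rM Q h (show Γ(Q, W) from i.app W a) = (show Γ(Q, W') from i.app W' (rO h a)) := fun h a =>
    (congr($(i.naturality (homOfLE h).op) a)).symm
  choose xl hxl using fun (W : U.Opens) (hW : IsAffineOpen W) => exists_isLift J C₀ hC hW
  let val : ∀ (W : U.Opens), IsAffineOpen W → Γ(E, π ⁻¹ᵁ W) → Γ(Q, W) := fun W hW b =>
    i.app W (P.tr W (xl W hW * b))
  have hval : ∀ {W : U.Opens} (hW : IsAffineOpen W) (x : Γ(E, π ⁻¹ᵁ W)), IsLift J C₀ hW x →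
      ∀ b, val W hW b = i.app W (P.tr W (x * b)) := fun {W} hW x hx b => by
    refine (quot_eq_iff J hW _ _).2 ?_
    rw [← P.tr_sub, ← sub_mul]
    exact P.tr_mem J hW ((hxl W hW).sub_mem J hx) b
  have hvres : ∀ {W W' : U.Opens} (hW : IsAffineOpen W) (hW' : IsAffineOpen W') (h : W' ≤ W) b,
      rM Q h (val W hW b) = val W' hW' (rE π h b) := fun {W W'} hW hW' h b => by
    rw [hval hW' _ ((hxl W hW).res J hW' h), ← rE_mul, P.tr_res]
    exact hnat h _
  have glue : ∀ (V : U.Opens) (b : Γ(E, π ⁻¹ᵁ V)), ∃! t : Γ(Q, V),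
      ∀ (W : U.Opens) (hW : IsAffineOpen W) (h : W ≤ V), rM Q h t = val W hW (rE π h b) := fun V b => by
    let ι := {W : U.affineOpens // W.1 ≤ V}
    have hcov : V ≤ iSup fun W : ι => W.1.1 := fun x hx => by
      obtain ⟨W, hW, hxW, hWV⟩ := exists_isAffineOpen_mem_and_subset (x := x) (U := V) hx
      exact Opens.mem_iSup.2 ⟨⟨⟨W, hW⟩, hWV⟩, hxW⟩
    obtain ⟨t, ht, hu⟩ := TopCat.Sheaf.existsUnique_gluing' (⟨Q.presheaf, Q.isSheaf⟩ : TopCat.Sheaf Ab U.toTopCat)
      (fun W : ι => W.1.1) V (fun W => homOfLE W.2) hcov (fun W => val W.1.1 W.1.2 (rE π W.2 b))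
      (fun W₁ W₂ => by
        show rM Q inf_le_left _ = rM Q inf_le_right _
        refine hloc _ _ _ fun x hx => ?_
        obtain ⟨W, hW, hxW, hW12⟩ := exists_isAffineOpen_mem_and_subset (x := x) (U := W₁.1.1 ⊓ W₂.1.1) hx
        refine ⟨W, hW12, hxW, ?_⟩
        rw [rM_rM, rM_rM, hvres _ hW, hvres _ hW, rE_rE, rE_rE])
    exact ⟨t, fun W hW h => ht ⟨⟨W, hW⟩, h⟩, fun t' ht' => hu t' fun W => ht' W.1.1 W.1.2 W.2⟩
  choose φ hφ hu using glue
  have hadd : ∀ V b b', φ V (b + b') = φ V b + φ V b' := fun V b b' =>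
    (hu V (b + b') (φ V b + φ V b') fun W hW h => by
      refine (map_add (Q.presheaf.map (homOfLE h).op).hom _ _).trans ?_
      rw [show rE π h (b + b') = rE π h b + rE π h b' from map_add _ _ _]
      refine (congrArg₂ (· + ·) (hφ V b W hW h) (hφ V b' W hW h)).trans ?_
      simp only [val, mul_add, P.tr_add, map_add]).symm
  have hsmul : ∀ V (a : Γ(U, V)) (b : Γ(pO π, V)), φ V (a • b : Γ(pO π, V)) = a • φ V b := fun V a b =>
    (hu V _ (a • φ V b) fun W hW h => by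
      rw [Groth.L12.FinCov.rM_smul, hφ V b W hW h]
      show i.app W (rO h a) * i.app W (P.tr W (xl W hW * rE π h b)) =
        i.app W (P.tr W (xl W hW * rE π h (π.app V a * (show Γ(E, π ⁻¹ᵁ V) from b))))
      rw [rE_mul, show rE π h (π.app V a) = π.app W (rO h a) from
        (congr($(π.naturality (homOfLE h).op) a)).symm, mul_left_comm, P.tr_smul, map_mul]).symm
  have hnat' : ∀ (V V' : U.Opens) (h : V' ≤ V) (b : Γ(pO π, V)),
      φ V' (rM (pO π) h b) = rM Q h (φ V b) := fun V V' h b =>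
    (hu V' _ (rM Q h (φ V b)) fun W hW h' => by
      rw [rM_rM, hφ V b W hW (h'.trans h)]
      exact congrArg (val W hW) (rE_rE π h h' b).symm).symm
  refine ⟨mkHom (M := pO π) (N := Q) φ hadd hsmul hnat', fun W hW x hx b => ?_⟩
  show φ W b = _
  have h1 := hφ W b W hW le_rfl
  rw [Groth.L12.FinCov.rM_self] at h1
  refine h1.trans ((hval hW x hx _).trans ?_)
  rw [show rE π (le_refl W) b = b from congr($(E.presheaf.map_id _) b)]

/-- Multiplication by a function, on sections. -/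
def md (δ : Γ(E, ⊤)) (V : U.Opens) (b : Γ(E, π ⁻¹ᵁ V)) : Γ(E, π ⁻¹ᵁ V) :=
  E.presheaf.map (homOfLE le_top).op δ * b

theorem md_add (δ : Γ(E, ⊤)) (V : U.Opens) (b b' : Γ(E, π ⁻¹ᵁ V)) : md δ V (b + b') = md δ V b + md δ V b' :=
  mul_add _ _ _

theorem md_smul (δ : Γ(E, ⊤)) (V : U.Opens) (r : Γ(U, V)) (b : Γ(E, π ⁻¹ᵁ V)) :
    md δ V (π.app V r * b) = π.app V r * md δ V b :=
  mul_left_comm _ _ _

theorem md_res (δ : Γ(E, ⊤)) {V V' : U.Opens} (h : V' ≤ V) (b : Γ(E, π ⁻¹ᵁ V)) :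
    md δ V' (rE π h b) = rE π h (md δ V b) := by
  rw [md, md, rE_mul]
  congr 1
  exact (congr($(E.presheaf.map_comp (homOfLE le_top).op (homOfLE (π.preimage_mono h)).op) δ))

/-- Multiplication by a function on the cover. -/
theorem exists_mulHom (δ : Γ(E, ⊤)) : ∃ m : pO π ⟶ pO π, ∀ (V : U.Opens) (b : Γ(E, π ⁻¹ᵁ V)),
    m.app V b = E.presheaf.map (homOfLE le_top).op δ * b :=
  ⟨mkHom (M := pO π) (N := pO π) (fun V b => md δ V b) (fun V b b' => md_add δ V b b')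
    (fun V r b => md_smul δ V r b) (fun _ _ h b => md_res δ h b), fun _ _ => rfl⟩

variable {J}

/-- A function killed by all levels is zero. -/
theorem eq_zero_of_levels [IsAffineHom π] (P : PerfectTrace π) (𝓙 : U.IdealSheafData)
    (hb : Lef.HomToFormalBijective 𝓙 (pO π)) (δ : Γ(E, ⊤))
    (hδ : ∀ (n : ℕ) (W : U.Opens) (hW : IsAffineOpen W),
      E.presheaf.map (homOfLE (le_top : π ⁻¹ᵁ W ≤ ⊤)).op δ ∈ lev (𝓙 ^ (n + 1)) hW) : δ = 0 := by
  obtain ⟨m, hm⟩ := exists_mulHom (π := π) δ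
  have h0 : m ≫ P.τ = 0 := hb.1 _ _ fun n => by
    rw [zero_comp]
    refine Groth.L12.FinCov.hom_ext fun V b => ?_
    let Q : U.Modules := ClSub.quotMod (𝓙 ^ (n + 1))
    choose W hW hxW hWV using fun x : V => exists_isAffineOpen_mem_and_subset (x := x.1) (U := V) x.2
    refine TopCat.Sheaf.eq_of_locally_eq' (⟨Q.presheaf, Q.isSheaf⟩ : TopCat.Sheaf Ab U.toTopCat)
      W V (fun x => homOfLE (hWV x)) (fun x hx => Opens.mem_iSup.2 ⟨⟨x, hx⟩, hxW ⟨x, hx⟩⟩) _ _ fun x => ?_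
    refine ((app_rM ((m ≫ P.τ) ≫ ClSub.toSubscheme (𝓙 ^ (n + 1))) (hWV x) b).symm.trans ?_).trans (map_zero _).symm
    show (𝓙 ^ (n + 1)).subschemeι.app (W x) (P.τ.app (W x) (m.app (W x) _)) = 0
    rw [hm, ← map_zero ((𝓙 ^ (n + 1)).subschemeι.app (W x)).hom]
    refine (quot_eq_iff _ (hW x) _ _).2 ?_
    rw [sub_zero]
    exact P.tr_mem _ (hW x) (hδ n (W x) (hW x)) _
  choose W hWa hxW hWO n b b' hb' using fun x : U => P.cover' x ⊤ trivial
  refine TopCat.Sheaf.eq_of_locally_eq' E.sheaf (fun x : U => π ⁻¹ᵁ W x) ⊤ (fun x => homOfLE le_top)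
    (fun z _ => Opens.mem_iSup.2 ⟨π z, hxW (π z)⟩) _ _ fun x => ?_
  show E.presheaf.map (homOfLE le_top).op δ = E.presheaf.map (homOfLE le_top).op 0
  rw [map_zero, hb' x (W x) le_rfl (hWa x) (E.presheaf.map (homOfLE le_top).op δ)]
  refine Finset.sum_eq_zero fun i _ => ?_
  have : (m ≫ P.τ).app (W x) (rE π le_rfl (b x i)) = 0 := by rw [h0]; rfl
  rw [Scheme.Modules.Hom.comp_app, CategoryTheory.comp_apply, hm] at this
  rw [show P.tr (W x) _ = 0 from this, map_zero, zero_mul]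

/-- A clopen subset missing the closed subscheme is empty. -/
theorem clopen_eq_empty [IsAffineHom π] (P : PerfectTrace π) (𝓙 : U.IdealSheafData)
    (hb : Lef.HomToFormalBijective 𝓙 (pO π)) (C : Set E) (hC : IsClopen C)
    (hd : ∀ z ∈ C, π z ∉ 𝓙.support) : C = ∅ := by
  obtain ⟨e, he, hloc⟩ := exists_idem (⊤ : E.Opens) C hC
  have h0 : e = 0 := eq_zero_of_levels P 𝓙 hb e fun n W hW => by
    rw [← app_eq_zero_iff]
    refine eq_zero_of_idem ((he.map (E.presheaf.map (homOfLE (le_top : π ⁻¹ᵁ W ≤ ⊤)).op).hom).map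
      ((((𝓙 ^ (n + 1)).comap π).subschemeι).app (π ⁻¹ᵁ W)).hom) fun t ht => ?_
    erw [← Scheme.preimage_basicOpen] at ht
    have h1 : ((𝓙 ^ (n + 1)).comap π).subschemeι t ∈ E.basicOpen e :=
      ((E.basicOpen_res e (homOfLE (le_top : π ⁻¹ᵁ W ≤ ⊤)).op).le ht).2
    refine hd _ ((hloc _ trivial).1 h1) ?_
    have : ((𝓙 ^ (n + 1)).comap π).subschemeι t ∈ π ⁻¹' ((𝓙 ^ (n + 1)).support : Set U) := by
      rw [← range_level]; exact ⟨t, rfl⟩
    rwa [Scheme.IdealSheafData.support_pow_succ] at this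
  refine Set.eq_empty_of_forall_notMem fun z hz => ?_
  have := (hloc z trivial).2 hz
  rw [h0, E.basicOpen_zero] at this
  exact this

/-- Relatively clopen subsets over the closed subscheme extend. -/
theorem exists_clopen_extend [IsAffineHom π] (P : PerfectTrace π) (𝓙 : U.IdealSheafData)
    (hb : Lef.HomToFormalBijective 𝓙 (pO π)) (C₀ : Set E)
    (hC : IsClopen ((Subtype.val : (π ⁻¹' (𝓙.support : Set U)) → E) ⁻¹' C₀)) :
    ∃ C : Set E, IsClopen C ∧ ∀ z, π z ∈ 𝓙.support → (z ∈ C ↔ z ∈ C₀) := by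
  classical
  have hsupp : ∀ n : ℕ, (𝓙 ^ (n + 1)).support = 𝓙.support := fun n => Scheme.IdealSheafData.support_pow_succ ..
  have hC' : ∀ n : ℕ, IsClopen ((Subtype.val : (π ⁻¹' ((𝓙 ^ (n + 1)).support : Set U)) → E) ⁻¹' C₀) :=
    fun n => by rw [hsupp]; exact hC
  choose y hy using fun n : ℕ => exists_levelHom (𝓙 ^ (n + 1)) P C₀ (hC' n)
  have hdown : ∀ (n : ℕ) {W : U.Opens} (hW : IsAffineOpen W) {x : Γ(E, π ⁻¹ᵁ W)},
      IsLift (𝓙 ^ (n + 1 + 1)) C₀ hW x → IsLift (𝓙 ^ (n + 1)) C₀ hW x := fun n W hW x hx => by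
    refine ⟨Ideal.map_mono (Lef.pow_succ_le 𝓙 n ⟨W, hW⟩) hx.1, fun z hz hzJ => hx.2 z hz ?_⟩
    rw [hsupp] at hzJ ⊢
    exact hzJ
  have hcomp : Lef.IsFormalHom 𝓙 (pO π) y := fun n => by
    refine Groth.L12.FinCov.hom_ext fun V b => ?_
    let Q : U.Modules := ClSub.quotMod (𝓙 ^ (n + 1))
    choose W hW hxW hWV using fun x : V => exists_isAffineOpen_mem_and_subset (x := x.1) (U := V) x.2
    refine TopCat.Sheaf.eq_of_locally_eq' (⟨Q.presheaf, Q.isSheaf⟩ : TopCat.Sheaf Ab U.toTopCat)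
      W V (fun x => homOfLE (hWV x)) (fun x hx => Opens.mem_iSup.2 ⟨⟨x, hx⟩, hxW ⟨x, hx⟩⟩) _ _ fun x => ?_
    refine (app_rM _ (hWV x) b).symm.trans (Eq.trans ?_ (app_rM _ (hWV x) b))
    obtain ⟨xl, hxl⟩ := exists_isLift (𝓙 ^ (n + 1 + 1)) C₀ (hC' (n + 1)) (hW x)
    rw [Scheme.Modules.Hom.comp_app, CategoryTheory.comp_apply, hy (n + 1) _ (hW x) _ hxl,
      hy n _ (hW x) _ (hdown n (hW x) hxl)]
    exact congr($(congrArg (fun k => Scheme.Modules.Hom.app k (W x))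
      (Groth.L18.LefConnected.toSubscheme_quotMap (Lef.pow_succ_le 𝓙 n))) _)
  obtain ⟨ψ, hψ⟩ := hb.2 y hcomp
  choose W hWa hxW hWO n b b' hb' using fun x : U => P.cover' x ⊤ trivial
  let sW : ∀ x : U, Γ(E, π ⁻¹ᵁ W x) := fun x =>
    ∑ i, π.app (W x) (show Γ(U, W x) from ψ.app (W x) (b x i)) * b' x i
  -- on every affine open below, `sW` realises `ψ`
  have hsW : ∀ (x : U) (W' : U.Opens) (hW' : IsAffineOpen W') (h : W' ≤ W x) (c : Γ(E, π ⁻¹ᵁ W')),
      P.tr W' (rE π h (sW x) * c) = (show Γ(U, W') from ψ.app W' c) := fun x W' hW' h c => by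
    have hψlin : ∀ (a : Γ(U, W')) (d : Γ(E, π ⁻¹ᵁ W')),
        (show Γ(U, W') from ψ.app W' (π.app W' a * d)) = a * (show Γ(U, W') from ψ.app W' d) := fun a d =>
      ψ.app_smul a d
    have e1 : rE π h (sW x) = ∑ i, π.app W' (show Γ(U, W') from ψ.app W' (rE π h (b x i))) * rE π h (b' x i) := by
      simp only [sW, rE, map_sum, map_mul]
      refine Finset.sum_congr rfl fun i _ => congrArg (· * _) ?_
      refine (congr($(π.naturality (homOfLE h).op) _)).symm.trans (congrArg (π.app W') ?_)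
      exact (app_rM ψ h (b x i)).symm
    -- expand `c` in the dual family
    have e2 := hb' x W' h hW'
    rw [e1, Finset.sum_mul]
    have hsum : P.tr W' (∑ i, π.app W' (show Γ(U, W') from ψ.app W' (rE π h (b x i))) * rE π h (b' x i) * c) =
        ∑ i, (show Γ(U, W') from ψ.app W' (rE π h (b x i))) * P.tr W' (rE π h (b' x i) * c) := by
      rw [P.tr_sum]
      refine Finset.sum_congr rfl fun i _ => ?_
      rw [mul_assoc]
      exact P.tr_smul _ _ _
    rw [hsum]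
    -- both sides are linear in `c`
    have e3 : c = ∑ i, π.app W' (P.tr W' (rE π h (b' x i) * c)) * rE π h (b x i) := by
      have key : ∀ d, P.tr W' ((c - ∑ i, π.app W' (P.tr W' (rE π h (b' x i) * c)) * rE π h (b x i)) * d) = 0 := by
        intro d
        rw [sub_mul, P.tr_sub, sub_eq_zero]
        conv_lhs => rw [e2 d]
        rw [Finset.mul_sum, Finset.sum_mul, P.tr_sum, P.tr_sum]
        refine Finset.sum_congr rfl fun i _ => ?_
        rw [mul_left_comm c, P.tr_smul, mul_assoc, P.tr_smul, mul_comm (P.tr W' (d * _)), mul_comm c,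
          mul_comm (rE π h (b x i)) d]
      have := e2 (c - ∑ i, π.app W' (P.tr W' (rE π h (b' x i) * c)) * rE π h (b x i))
      rw [← sub_eq_zero, this]
      refine Finset.sum_eq_zero fun i _ => ?_
      show π.app W' (P.tr W' _) * _ = 0
      rw [key, map_zero, zero_mul]
    conv_rhs => rw [e3]
    refine Eq.trans ?_ (map_sum (ψ.app W').hom _ _).symm
    refine Finset.sum_congr rfl fun i _ => ?_
    rw [mul_comm]
    exact (hψlin _ _).symm
  have huniq : ∀ (x : U) (W' : U.Opens) (hW' : IsAffineOpen W') (h : W' ≤ W x) (s t : Γ(E, π ⁻¹ᵁ W')),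
      (∀ c, P.tr W' (s * c) = P.tr W' (t * c)) → s = t := fun x W' hW' h s t hst => by
    rw [hb' x W' h hW' s, hb' x W' h hW' t]
    refine Finset.sum_congr rfl fun i _ => ?_
    show π.app W' (P.tr W' _) * _ = π.app W' (P.tr W' _) * _
    rw [hst]
  obtain ⟨s, hs, -⟩ := TopCat.Sheaf.existsUnique_gluing' E.sheaf (fun x : U => π ⁻¹ᵁ W x) ⊤
    (fun x => homOfLE le_top) (fun z _ => Opens.mem_iSup.2 ⟨π z, hxW (π z)⟩) sW (fun x x' => by
      show E.presheaf.map (homOfLE inf_le_left).op (sW x) = E.presheaf.map (homOfLE inf_le_right).op (sW x')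
      choose V hV hzV hVle using fun z : (π ⁻¹ᵁ W x ⊓ π ⁻¹ᵁ W x' : E.Opens) =>
        exists_isAffineOpen_mem_and_subset (x := π z.1) (U := W x ⊓ W x') z.2
      refine TopCat.Sheaf.eq_of_locally_eq' E.sheaf (fun z => π ⁻¹ᵁ V z) _
        (fun z => homOfLE (show π ⁻¹ᵁ V z ≤ π ⁻¹ᵁ W x ⊓ π ⁻¹ᵁ W x' from fun w hw => ⟨(hVle z hw).1, (hVle z hw).2⟩))
        (fun z hz => Opens.mem_iSup.2 ⟨⟨z, hz⟩, hzV ⟨z, hz⟩⟩) _ _ fun z => ?_
      show (E.presheaf.map _ ≫ E.presheaf.map _) (sW x) = (E.presheaf.map _ ≫ E.presheaf.map _) (sW x')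
      rw [← Functor.map_comp, ← Functor.map_comp]
      refine huniq x _ (hV z) (fun w hw => (hVle z hw).1) (rE π (fun w hw => (hVle z hw).1) (sW x))
        (rE π (fun w hw => (hVle z hw).2) (sW x')) fun c => ?_
      rw [hsW x _ (hV z), hsW x' _ (hV z)])
  have hs' : ∀ x, E.presheaf.map (homOfLE le_top).op s = sW x := hs
  -- on each chart `s` lifts every level
  have hlift : ∀ (n : ℕ) (x : U) (W' : U.Opens) (hW' : IsAffineOpen W') (h : W' ≤ W x),
      IsLift (𝓙 ^ (n + 1)) C₀ hW' (E.presheaf.map (homOfLE (le_top : π ⁻¹ᵁ W' ≤ ⊤)).op s) := by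
    intro m x W' hW' h
    obtain ⟨xl, hxl⟩ := exists_isLift (𝓙 ^ (m + 1)) C₀ (hC' m) hW'
    have hres : E.presheaf.map (homOfLE (le_top : π ⁻¹ᵁ W' ≤ ⊤)).op s = rE π h (sW x) := by
      rw [← hs' x]
      exact congr($(E.presheaf.map_comp (homOfLE (le_top : π ⁻¹ᵁ W x ≤ ⊤)).op (homOfLE (π.preimage_mono h)).op) s)
    rw [hres]
    have hdiff : rE π h (sW x) - xl ∈ lev (𝓙 ^ (m + 1)) hW' := by
      rw [hb' x W' h hW' (rE π h (sW x) - xl)]
      refine Ideal.sum_mem _ fun i _ => Ideal.mul_mem_right _ _ (Ideal.mem_map_of_mem _ ?_)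
      show P.tr W' _ ∈ _
      rw [sub_mul, P.tr_sub, hsW x W' hW']
      refine (quot_eq_iff _ hW' _ _).1 ?_
      refine Eq.trans ?_ (hy m W' hW' xl hxl _)
      exact congr($(congrArg (fun k => Scheme.Modules.Hom.app k W') (hψ m)) _)
    have hrange : ∀ z, π z ∈ W' → π z ∈ (𝓙 ^ (m + 1)).support →
        (z ∈ E.basicOpen (rE π h (sW x)) ↔ z ∈ E.basicOpen xl) := fun z hz hzJ => by
      obtain ⟨t, rfl⟩ : z ∈ Set.range ((𝓙 ^ (m + 1)).comap π).subschemeι := by rw [range_level]; exact hzJ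
      show t ∈ ((𝓙 ^ (m + 1)).comap π).subschemeι ⁻¹ᵁ E.basicOpen _ ↔
        t ∈ ((𝓙 ^ (m + 1)).comap π).subschemeι ⁻¹ᵁ E.basicOpen xl
      rw [Scheme.preimage_basicOpen, Scheme.preimage_basicOpen,
        sub_eq_zero.1 ((map_sub _ _ _).symm.trans ((app_eq_zero_iff _ hW' _).2 hdiff))]
    refine ⟨?_, fun z hz hzJ => (hrange z hz hzJ).trans (hxl.2 z hz hzJ)⟩
    have : rE π h (sW x) * rE π h (sW x) - rE π h (sW x) =
        (rE π h (sW x) + xl - 1) * (rE π h (sW x) - xl) + (xl * xl - xl) := by ring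
    rw [this]
    exact add_mem (Ideal.mul_mem_left _ _ hdiff) hxl.1
  have hidem : s * s - s = 0 := eq_zero_of_levels P 𝓙 hb _ fun m W' hW' => by
    choose V hV hzV hVle using fun z : W' =>
      exists_isAffineOpen_mem_and_subset (x := z.1) (U := W' ⊓ W z.1) ⟨z.2, hxW z.1⟩
    rw [← app_eq_zero_iff]
    let k := ((𝓙 ^ (m + 1)).comap π).subschemeι
    refine TopCat.Sheaf.eq_of_locally_eq' ((𝓙 ^ (m + 1)).comap π).subscheme.sheaf
      (fun z : W' => k ⁻¹ᵁ π ⁻¹ᵁ V z) (k ⁻¹ᵁ π ⁻¹ᵁ W')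
      (fun z => homOfLE (k.preimage_mono (π.preimage_mono ((hVle z).trans inf_le_left))))
      (fun t ht => Opens.mem_iSup.2 ⟨⟨π (k t), ht⟩, hzV ⟨π (k t), ht⟩⟩) _ _ fun z => ?_
    refine ((congr($(k.naturality (homOfLE (π.preimage_mono ((hVle z).trans inf_le_left))).op) _)).symm.trans ?_).trans
      (map_zero _).symm
    refine (app_eq_zero_iff _ (hV z) _).2 ?_
    show (E.presheaf.map _ ≫ E.presheaf.map _) (s * s - s) ∈ _
    rw [← Functor.map_comp, map_sub, map_mul]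
    exact (hlift m z.1 (V z) (hV z) ((hVle z).trans inf_le_right)).1
  have hid : IsIdempotentElem s := sub_eq_zero.1 hidem
  refine ⟨E.basicOpen s, ⟨?_, (E.basicOpen s).2⟩, fun z hz => ?_⟩
  · have : ((E.basicOpen s : Set E))ᶜ = E.basicOpen (1 - s) := by
      ext w
      rw [Set.mem_compl_iff, SetLike.mem_coe, SetLike.mem_coe]
      constructor
      · intro hw
        rw [E.mem_basicOpen_top] at hw ⊢
        rw [map_sub, map_one]
        exact (IsLocalRing.isUnit_or_isUnit_one_sub_self _).resolve_left hw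
      · intro hw hw'
        have h2 : w ∈ E.basicOpen (s * (1 - s)) := by rw [E.basicOpen_mul]; exact ⟨hw', hw⟩
        rw [hid.mul_one_sub_self, E.basicOpen_zero] at h2
        exact h2
    exact ⟨this ▸ (E.basicOpen (1 - s)).2⟩
  · have h2 := (hlift 0 (π z) (W (π z)) (hWa _) le_rfl).2 z (hxW _) (by rw [hsupp]; exact hz)
    rw [E.basicOpen_res] at h2
    exact ⟨fun h => h2.1 ⟨hxW _, h⟩, fun h => (h2.2 h).2⟩

/-- Finite étale covers have perfect traces. -/
theorem nonempty_perfectTrace [IsFinite π] [AlgebraicGeometry.Etale π] :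
    FlatMod.IsFinLocFree (pO π) ∧ Nonempty (PerfectTrace π) := by
  classical
  have hflf : FlatMod.IsFinLocFree (pO π) :=
    (Groth.L19.FinLocPush.isFinLocFree_push π ⟨inferInstance, inferInstance, inferInstance⟩).2
  let A := RelSpec.QCAlg.directImage π
  let eA : A.toModule ≅ pO π :=
    { hom := mkHom (M := A.toModule) (N := pO π) (fun _ s => s) (fun _ _ _ => rfl) (fun _ _ _ => rfl) (fun _ _ _ _ => rfl)
      inv := mkHom (M := pO π) (N := A.toModule) (fun _ s => s) (fun _ _ _ => rfl) (fun _ _ _ => rfl) (fun _ _ _ _ => rfl)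
      hom_inv_id := Groth.L12.FinCov.hom_ext fun _ _ => rfl
      inv_hom_id := Groth.L12.FinCov.hom_ext fun _ _ => rfl }
  have hA : FlatMod.IsFinLocFree A.toModule := fun x => by
    obtain ⟨V, n, hx, ⟨e⟩⟩ := hflf x
    exact ⟨V, n, hx, ⟨(Scheme.Modules.restrictFunctor V.ι).mapIso eA ≪≫ e⟩⟩
  obtain ⟨τ, hτ⟩ := Groth.L12.FinCov.exists_isTrace hA
  refine ⟨hflf, ⟨⟨eA.inv ≫ τ, fun x O hx => ?_⟩⟩⟩
  obtain ⟨W, hW, hxW, hWO, hWb⟩ := Groth.L12.FinCov.exists_based hA x O hx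
  obtain ⟨n, b, hgood⟩ := hWb
  letI := Groth.L12.FinCov.algS A W
  let B := hgood.basis (le_refl W)
  haveI : Module.Free Γ(U, W) (Groth.L12.FinCov.Sec A W) := Module.Free.of_basis B
  haveI : Module.Finite Γ(U, W) (Groth.L12.FinCov.Sec A W) := Module.Finite.of_basis B
  haveI : Algebra.Etale Γ(U, W) (Groth.L12.FinCov.Sec A W) := by
    have := Etale.etale_appLE π hW (hW.preimage π) le_rfl
    rw [← Scheme.Hom.app_eq_appLE] at this
    exact this
  let T := LinearEquiv.ofBijective (Algebra.traceForm Γ(U, W) (Groth.L12.FinCov.Sec A W)) Groth.L29.Trace.trace_bijective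
  refine ⟨W, hW, hxW, hWO, n, fun i => B i, fun i => T.symm (B.coord i), fun W' h hW' y => ?_⟩
  letI := Groth.L12.FinCov.algS A W'
  let B' := hgood.basis h
  haveI : Module.Free Γ(U, W') (Groth.L12.FinCov.Sec A W') := Module.Free.of_basis B'
  haveI : Module.Finite Γ(U, W') (Groth.L12.FinCov.Sec A W') := Module.Finite.of_basis B'
  haveI : Algebra.Etale Γ(U, W') (Groth.L12.FinCov.Sec A W') := by
    have := Etale.etale_appLE π hW' (hW'.preimage π) le_rfl
    rw [← Scheme.Hom.app_eq_appLE] at this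
    exact this
  have hb : ∀ i, Groth.L12.FinCov.resA A h (B i) = B' i := fun i => by
    rw [hgood.basis_apply, hgood.basis_apply, Groth.L12.FinCov.resA_resA]
  have htr : ∀ z : Groth.L12.FinCov.Sec A W',
      (show Γ(U, W') from (eA.inv ≫ τ).app W' z) = Algebra.trace Γ(U, W') (Groth.L12.FinCov.Sec A W') z :=
    fun z => Groth.L12.FinCov.isTrace_app hτ hW' ⟨n, _, hgood.mono h⟩ z
  refine Eq.trans ?_ (Finset.sum_congr rfl fun i _ => (congrArg (fun a => π.app W' a * _) (htr _)).symm)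
  apply (Groth.L29.Trace.trace_bijective (R := Γ(U, W')) (L := Groth.L12.FinCov.Sec A W')).1
  refine B'.ext fun j => ?_
  let y' : Groth.L12.FinCov.Sec A W' := y
  have hd : ∀ i, Algebra.trace Γ(U, W') (Groth.L12.FinCov.Sec A W')
      (Groth.L12.FinCov.resA A h (T.symm (B.coord i)) * B' j) = if j = i then 1 else 0 := fun i => by
    rw [← hb, ← map_mul]
    refine (Groth.L12.FinCov.tr_res ⟨n, _, hgood⟩ h _).trans ?_
    have h1 : Groth.L12.FinCov.tr A W (T.symm (B.coord i) * B j) = B.coord i (B j) :=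
      LinearMap.congr_fun (T.apply_symm_apply (B.coord i)) (B j)
    rw [h1, Module.Basis.coord_apply, Module.Basis.repr_self, Finsupp.single_apply]
    split_ifs <;> simp
  show Algebra.trace Γ(U, W') _ (y' * B' j) =
    Algebra.trace Γ(U, W') _ ((∑ i, algebraMap Γ(U, W') (Groth.L12.FinCov.Sec A W')
      (Algebra.trace Γ(U, W') _ (y' * Groth.L12.FinCov.resA A h (B i))) *
      Groth.L12.FinCov.resA A h (T.symm (B.coord i))) * B' j)
  rw [Finset.sum_mul, map_sum]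
  simp only [mul_assoc, ← Algebra.smul_def, smul_mul_assoc, map_smul, hd, smul_eq_mul, mul_ite, mul_one, mul_zero, hb]
  rw [Finset.sum_ite_eq]
  simp

end Groth.L06.FEtLef
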