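import Groth.Agent.L18.GlobGen
import Groth.Agent.L16.NegPow.Gen
import Groth.Agent.L29.DCoh.Amplitude
import Groth.Prelude.Def_Lef
import Mathlib.AlgebraicGeometry.Noetherian

/-!
On a quasi-affine scheme the structure module controls the formal homomorphisms out of locally free modules.
-/

set_option autoImplicit false
set_option linter.style.haveILetI false
set_option backward.isDefEq.respectTransparency false
universe u

open CategoryTheory CategoryTheory.Limits AlgebraicGeometry

noncomputable section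

namespace Groth.L06.FEtLef

variable {X : Scheme.{u}} [IsNoetherian X] [X.IsQuasiAffine] (𝓘 : X.IdealSheafData)

theorem homToFormalBijective_quasiAffine (h : Lef.HomToFormalBijective 𝓘 (Coh.structureModule X))
    {D : X.Modules} (hD : FlatMod.IsFinLocFree D) : Lef.HomToFormalBijective 𝓘 D := by
  have key : ∀ {Q : X.Modules}, FlatMod.IsFinLocFree Q → ∃ (k : ℕ) (p : FlatMod.freeMod X k ⟶ Q), Epi p :=
    fun {Q} hQ => by
      have hc := Groth.L16.NegPow.isCoh_of_isFinLocFree hQ
      haveI : Coh.IsQCoh Q := hc.1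
      obtain ⟨ι, p, hp⟩ := Groth.L18.Ample.isGloballyGenerated_of_isQuasiAffine Q
      exact Groth.L16.NegPow.exists_finite_epi hc p
  obtain ⟨k, p, hp⟩ := key hD
  have hfree : FlatMod.IsFinLocFree (FlatMod.freeMod X k) :=
    fun x => ⟨⊤, k, trivial, ⟨Groth.L16.NegPow.freeRestrictIso _ _⟩⟩
  haveI := hp
  obtain ⟨l, q, hq⟩ := key (Groth.L29.DC.isFinLocFree_kernel_of_epi p hfree hD)
  haveI := hq
  let ι : ∀ {r : ℕ}, Fin r → (Coh.structureModule X ⟶ FlatMod.freeMod X r) := fun {r} j =>
    Sigma.ι (fun _ : Fin r => Coh.structureModule X) j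
  refine ⟨fun φ ψ hφψ => ?_, fun y hy => ?_⟩
  · rw [← cancel_epi p]
    refine Sigma.hom_ext _ _ fun j => h.1 _ _ fun n => ?_
    simp only [Category.assoc, hφψ n]
  · choose φj hφj using fun j : Fin k => h.2 (fun n => ι j ≫ p ≫ y n) fun n => by
      simp only [Category.assoc, hy n]
    let Φ : FlatMod.freeMod X k ⟶ Coh.structureModule X := Sigma.desc φj
    have hΦ : ∀ n, Φ ≫ ClSub.toSubscheme (𝓘 ^ (n + 1)) = p ≫ y n := fun n => by
      refine Sigma.hom_ext _ _ fun j => ?_
      rw [← Category.assoc, Sigma.ι_desc]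
      exact hφj j n
    have hK : kernel.ι p ≫ Φ = 0 := by
      rw [← cancel_epi q, comp_zero]
      refine Sigma.hom_ext _ _ fun j => h.1 _ _ fun n => ?_
      simp only [Category.assoc, hΦ, kernel.condition_assoc, comp_zero, zero_comp]
    refine ⟨Abelian.epiDesc p Φ hK, fun n => ?_⟩
    rw [← cancel_epi p, ← Category.assoc, Abelian.comp_epiDesc, hΦ]

end Groth.L06.FEtLef
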